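import Mathlib
import Groth.Prelude.Def_AlgGrp
import Groth.Prelude.Def_Red
import Groth.Agent.Lib.Helper2.Desc.QcqsDesc

/-!
# Anti-affineness and field extensions (helper2)
-/

set_option autoImplicit false
universe u

namespace Groth.Agent.Helper2.AntiAff
open CategoryTheory CategoryTheory.Limits AlgebraicGeometry TensorProduct

/-- `K ⟶ K ⊗ A` is bijective iff `k ⟶ A` is, for a field extension `K/k`. -/
theorem bijective_includeLeft_iff (k A K : Type u) [Field k] [CommRing A] [Algebra k A] [Field K]
    [Algebra k K] :
    Function.Bijective (Algebra.TensorProduct.includeLeftRingHom : K →+* K ⊗[k] A) ↔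
      Function.Bijective (algebraMap k A) := by
  have h1 : ∀ x : K, (Algebra.TensorProduct.includeLeftRingHom : K →+* K ⊗[k] A) x =
      (LinearMap.lTensor K (Algebra.linearMap k A)) ((TensorProduct.rid k K).symm x) := by
    intro x
    simp
  have h2 : (⇑(Algebra.TensorProduct.includeLeftRingHom : K →+* K ⊗[k] A)) =
      ⇑(LinearMap.lTensor K (Algebra.linearMap k A)) ∘ ⇑(TensorProduct.rid k K).symm := by
    funext x
    exact h1 x
  rw [h2, Function.Bijective.of_comp_iff _ (TensorProduct.rid k K).symm.bijective,
    Module.FaithfullyFlat.lTensor_bijective_iff_bijective]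
  rfl

/-- In a pushout square of commutative rings over a field extension, bijectivity transfers. -/
theorem bijective_iff_of_isPushout (k K : Type u) [Field k] [Field K] [Algebra k K]
    {A P : CommRingCat.{u}} (α : CommRingCat.of k ⟶ A) (a' : A ⟶ P) (β : CommRingCat.of K ⟶ P)
    (h : IsPushout (CommRingCat.ofHom (algebraMap k K)) α β a') :
    Function.Bijective α.hom ↔ Function.Bijective β.hom := by
  letI : Algebra k A := α.hom.toAlgebra
  have hα : α = CommRingCat.ofHom (algebraMap k A) := rfl
  have h0 := CommRingCat.isPushout_tensorProduct k K A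
  rw [hα] at h
  let e : P ≅ CommRingCat.of (K ⊗[k] A) := h.isoIsPushout _ _ h0
  have he : β ≫ e.hom = CommRingCat.ofHom
      (Algebra.TensorProduct.includeLeftRingHom : K →+* K ⊗[k] A) :=
    h.inl_isoIsPushout_hom _ _ h0
  have hb : Function.Bijective e.hom.hom := ConcreteCategory.bijective_of_isIso e.hom
  have h3 : Function.Bijective β.hom ↔
      Function.Bijective (Algebra.TensorProduct.includeLeftRingHom : K →+* K ⊗[k] A) := by
    have : (⇑(Algebra.TensorProduct.includeLeftRingHom : K →+* K ⊗[k] A)) =
        ⇑e.hom.hom ∘ ⇑β.hom := by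
      funext x
      have := congrArg (fun φ => φ.hom x) he
      exact this.symm
    rw [this, Function.Bijective.of_comp_iff' hb]
  rw [h3, bijective_includeLeft_iff]
  rfl

theorem main (k : Type u) [Field k] (K : Type u) [Field K] [Algebra k K]
    (G : Over (Spec (CommRingCat.of k))) [LocallyOfFiniteType G.hom] [QuasiCompact G.hom] :
    Function.Bijective ((Scheme.ΓSpecIso (CommRingCat.of k)).inv ≫ G.hom.appTop).hom ↔
      Function.Bijective ((Scheme.ΓSpecIso (CommRingCat.of K)).inv ≫
        (Red.bc (Spec.map (CommRingCat.ofHom (algebraMap k K))) G).hom.appTop).hom := by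
  set f := Spec.map (CommRingCat.ofHom (algebraMap k K)) with hf
  haveI : IsLocallyNoetherian G.left := LocallyOfFiniteType.isLocallyNoetherian G.hom
  haveI : CompactSpace G.left := (quasiCompact_iff_compactSpace G.hom).mp inferInstance
  haveI : Flat f := by
    rw [hf, HasRingHomProperty.Spec_iff (P := @Flat)]
    show (algebraMap k K).Flat
    rw [RingHom.flat_algebraMap_iff]
    infer_instance
  have H : IsPullback (pullback.fst G.hom f) (pullback.snd G.hom f) G.hom f :=
    IsPullback.of_hasPullback _ _
  have P1 := Groth.Agent.Helper2.AffDesc.isPushout_appTop_of_flat H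
  have hnat : (Scheme.ΓSpecIso (CommRingCat.of k)).inv ≫ f.appTop =
      CommRingCat.ofHom (algebraMap k K) ≫ (Scheme.ΓSpecIso (CommRingCat.of K)).inv :=
    (Scheme.ΓSpecIso_inv_naturality _).symm
  have P2 : IsPushout (CommRingCat.ofHom (algebraMap k K))
      ((Scheme.ΓSpecIso (CommRingCat.of k)).inv ≫ G.hom.appTop)
      ((Scheme.ΓSpecIso (CommRingCat.of K)).inv ≫ (pullback.snd G.hom f).appTop)
      (pullback.fst G.hom f).appTop := by
    refine P1.flip.of_iso (Scheme.ΓSpecIso (CommRingCat.of k)) (Scheme.ΓSpecIso (CommRingCat.of K))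
      (Iso.refl _) (Iso.refl _) ?_ ?_ ?_ ?_
    · rw [← Iso.inv_comp_eq, ← Category.assoc, hnat, Category.assoc, Iso.inv_hom_id,
        Category.comp_id]
    · simp
    · simp
    · simp
  exact bijective_iff_of_isPushout k K _ _ _ P2

end Groth.Agent.Helper2.AntiAff
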