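import Mathlib
import Groth.Prelude.Def_AlgGrp
import Groth.Prelude.Def_Red
import Groth.Agent.Lib.Helper2.Desc.QcqsDesc

/-!
# Anti-affineness of a product over a field (helper2)
-/

set_option autoImplicit false
universe u

namespace Groth.Agent.Helper2.AntiAffProd
open CategoryTheory CategoryTheory.Limits AlgebraicGeometry TensorProduct MonoidalCategory

section Algebra

variable (k A B : Type u) [Field k] [CommRing A] [CommRing B] [Algebra k A] [Algebra k B]

theorem rank_eq_one_of_bijective (h : Function.Bijective (algebraMap k A)) :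
    Module.rank k A = 1 := by
  let e : k ≃ₗ[k] A := LinearEquiv.ofBijective (Algebra.linearMap k A) h
  rw [← e.rank_eq, Module.rank_self]

theorem bijective_of_rank_eq_one [Nontrivial A] (h : Module.rank k A = 1) :
    Function.Bijective (algebraMap k A) := by
  refine ⟨(algebraMap k A).injective, ?_⟩
  rw [Algebra.surjective_algebraMap_iff]
  exact (Subalgebra.bot_eq_top_of_rank_eq_one h).symm

theorem bijective_tensor_iff [Nontrivial A] [Nontrivial B] :
    Function.Bijective (algebraMap k (A ⊗[k] B)) ↔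
      Function.Bijective (algebraMap k A) ∧ Function.Bijective (algebraMap k B) := by
  constructor
  · intro h
    have h1 := rank_eq_one_of_bijective k (A ⊗[k] B) h
    rw [rank_tensorProduct'] at h1
    have hA : Module.rank k A = 1 := Cardinal.isUnit_iff.mp (IsUnit.of_mul_eq_one _ h1)
    have hB : Module.rank k B = 1 := by
      rw [mul_comm] at h1
      exact Cardinal.isUnit_iff.mp (IsUnit.of_mul_eq_one _ h1)
    exact ⟨bijective_of_rank_eq_one k A hA, bijective_of_rank_eq_one k B hB⟩
  · rintro ⟨hA, hB⟩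
    have h1 : Module.rank k (A ⊗[k] B) = 1 := by
      rw [rank_tensorProduct', rank_eq_one_of_bijective k A hA, rank_eq_one_of_bijective k B hB,
        mul_one]
    haveI : Nontrivial (A ⊗[k] B) := by
      rw [← rank_pos_iff_nontrivial (R := k), h1]
      exact zero_lt_one
    exact bijective_of_rank_eq_one k _ h1

end Algebra

/-- In a pushout square of nontrivial commutative rings over a field, the pushout is the field
iff both factors are. -/
theorem bijective_iff_of_isPushout (k : Type u) [Field k] {A B P : CommRingCat.{u}}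
    [Nontrivial A] [Nontrivial B]
    (α : CommRingCat.of k ⟶ A) (β : CommRingCat.of k ⟶ B) (a' : A ⟶ P) (b' : B ⟶ P)
    (h : IsPushout α β a' b') :
    Function.Bijective (α ≫ a').hom ↔ Function.Bijective α.hom ∧ Function.Bijective β.hom := by
  letI : Algebra k A := α.hom.toAlgebra
  letI : Algebra k B := β.hom.toAlgebra
  have hα : α = CommRingCat.ofHom (algebraMap k A) := rfl
  have hβ : β = CommRingCat.ofHom (algebraMap k B) := rfl
  have h0 := CommRingCat.isPushout_tensorProduct k A B
  rw [hα, hβ] at h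
  let e : P ≅ CommRingCat.of (A ⊗[k] B) := h.isoIsPushout _ _ h0
  have he : a' ≫ e.hom = CommRingCat.ofHom
      (Algebra.TensorProduct.includeLeftRingHom : A →+* A ⊗[k] B) :=
    h.inl_isoIsPushout_hom _ _ h0
  have hb : Function.Bijective e.hom.hom := ConcreteCategory.bijective_of_isIso e.hom
  have h3 : Function.Bijective (α ≫ a').hom ↔
      Function.Bijective (algebraMap k (A ⊗[k] B)) := by
    have : (⇑(algebraMap k (A ⊗[k] B))) = ⇑e.hom.hom ∘ ⇑(α ≫ a').hom := by
      funext x
      have := congrArg (fun φ => φ.hom (algebraMap k A x)) he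
      simp only [CommRingCat.hom_comp, CommRingCat.hom_ofHom, RingHom.coe_comp,
        Function.comp_apply] at this ⊢
      have hx : (CommRingCat.Hom.hom α) x = algebraMap k A x := rfl
      rw [hx, this]
      simp [Algebra.TensorProduct.algebraMap_apply]
    rw [this, Function.Bijective.of_comp_iff' hb]
  rw [h3, bijective_tensor_iff]
  rfl

theorem main (k : Type u) [Field k]
    (G₁ G₂ : Over (Spec (CommRingCat.of k))) [LocallyOfFiniteType G₁.hom] [QuasiCompact G₁.hom]
    [Nonempty ↥G₁.left]
    [LocallyOfFiniteType G₂.hom] [QuasiCompact G₂.hom] [Nonempty ↥G₂.left] :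
    Function.Bijective ((Scheme.ΓSpecIso (CommRingCat.of k)).inv ≫ (G₁ ⊗ G₂).hom.appTop).hom ↔
      Function.Bijective ((Scheme.ΓSpecIso (CommRingCat.of k)).inv ≫ G₁.hom.appTop).hom ∧
        Function.Bijective ((Scheme.ΓSpecIso (CommRingCat.of k)).inv ≫ G₂.hom.appTop).hom := by
  haveI : IsLocallyNoetherian G₁.left := LocallyOfFiniteType.isLocallyNoetherian G₁.hom
  haveI : CompactSpace G₁.left := (quasiCompact_iff_compactSpace G₁.hom).mp inferInstance
  haveI : IsLocallyNoetherian G₂.left := LocallyOfFiniteType.isLocallyNoetherian G₂.hom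
  haveI : CompactSpace G₂.left := (quasiCompact_iff_compactSpace G₂.hom).mp inferInstance
  haveI : Flat G₂.hom := inferInstance
  have H : IsPullback (pullback.fst G₁.hom G₂.hom) (pullback.snd G₁.hom G₂.hom) G₁.hom G₂.hom :=
    IsPullback.of_hasPullback _ _
  have hUST : (⊤ : G₂.left.Opens) ≤ G₂.hom ⁻¹ᵁ (⊤ : (Spec (CommRingCat.of k)).Opens) :=
    le_of_eq rfl
  have hUSX : (⊤ : G₁.left.Opens) ≤ G₁.hom ⁻¹ᵁ (⊤ : (Spec (CommRingCat.of k)).Opens) :=
    le_of_eq rfl
  have hUY : (⊤ : (pullback G₁.hom G₂.hom).Opens) =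
      pullback.fst G₁.hom G₂.hom ⁻¹ᵁ (⊤ : G₁.left.Opens) ⊓
        pullback.snd G₁.hom G₂.hom ⁻¹ᵁ (⊤ : G₂.left.Opens) := by simp
  have hflat : (G₁.hom.appLE ⊤ ⊤ hUSX).hom.Flat := by
    refine RingHom.Flat.of_isField ?_ _
    exact MulEquiv.isField (Field.toIsField k)
      (Scheme.ΓSpecIso (CommRingCat.of k)).commRingCatIsoToRingEquiv.toMulEquiv
  have h1 := isIso_pushoutSection_of_isCompact_of_flat_right_of_ringHomFlat H hUST hUSX hUY
    (isAffineOpen_top _) isCompact_univ (isQuasiSeparated_univ_iff.mpr inferInstance)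
    isCompact_univ (isQuasiSeparated_univ_iff.mpr inferInstance) hflat
  have h2 := (isIso_pushoutSection_iff H hUST hUSX hUY).mp h1
  have P1 : IsPushout G₁.hom.appTop G₂.hom.appTop (pullback.fst G₁.hom G₂.hom).appTop
      (pullback.snd G₁.hom G₂.hom).appTop := by
    convert h2 using 1 <;> simp [Scheme.Hom.appLE]
  have P2 : IsPushout ((Scheme.ΓSpecIso (CommRingCat.of k)).inv ≫ G₁.hom.appTop)
      ((Scheme.ΓSpecIso (CommRingCat.of k)).inv ≫ G₂.hom.appTop)
      (pullback.fst G₁.hom G₂.hom).appTop (pullback.snd G₁.hom G₂.hom).appTop := by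
    refine P1.of_iso (Scheme.ΓSpecIso (CommRingCat.of k)) (Iso.refl _) (Iso.refl _) (Iso.refl _)
      ?_ ?_ ?_ ?_
    · simp
    · simp
    · simp
    · simp
  haveI : Nontrivial ↑Γ(G₁.left, ⊤) :=
    @Scheme.component_nontrivial G₁.left ⊤ ⟨⟨Classical.arbitrary _, trivial⟩⟩
  haveI : Nontrivial ↑Γ(G₂.left, ⊤) :=
    @Scheme.component_nontrivial G₂.left ⊤ ⟨⟨Classical.arbitrary _, trivial⟩⟩
  have h3 := bijective_iff_of_isPushout k _ _ _ _ P2
  have h4 : (G₁ ⊗ G₂).hom.appTop = G₁.hom.appTop ≫ (pullback.fst G₁.hom G₂.hom).appTop := by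
    rw [← Scheme.Hom.comp_appTop]
    rfl
  rw [h4, ← Category.assoc]
  exact h3

end Groth.Agent.Helper2.AntiAffProd
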