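import Mathlib
import Groth.Prelude.Def_AlgGrp
import Groth.Agent.Lib.Helper7.GrpUnram.Tfae
import Groth.Agent.Lib.Lead.GUnib12

/-!
# A group scheme locally of finite type with trivial fibres is trivial (helper2)
-/

set_option autoImplicit false
universe u

namespace Groth.Agent.Helper2.FibreTriv
open CategoryTheory CategoryTheory.Limits MonoidalCategory CartesianMonoidalCategory MonObj GrpObj
  AlgebraicGeometry

theorem isIso_of_fibres (S : Scheme.{u}) (G : Over S) [GrpObj G] [LocallyOfFiniteType G.hom]
    (h : ∀ s : S, IsIso (G.hom.fiberToSpecResidueField s)) : IsIso G.hom := by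
  have hunr : FormallyUnramified G.hom := by
    apply Groth.Agent.Lead.GUnib.formallyUnramified_of_fibres
    intro s
    haveI : IsIso (pullback.snd G.hom (S.fromSpecResidueField s)) := h s
    infer_instance
  have hopen : IsOpenImmersion η[G].left :=
    (Groth.Agent.Helper7.GrpUnram.formallyUnramified_iff_isOpenImmersion_unit G).mp hunr
  have hsec : η[G].left ≫ G.hom = 𝟙 S := Over.w η[G]
  have hsurj : Function.Surjective η[G].left := by
    intro x
    set s : S := G.hom x with hs
    refine ⟨s, ?_⟩
    -- both points lie in the fibre over `s`, which is a single point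
    have hx : x ∈ G.hom ⁻¹' {s} := rfl
    have hy : η[G].left s ∈ G.hom ⁻¹' {s} := by
      show G.hom (η[G].left s) = s
      rw [← Scheme.Hom.comp_apply, hsec]
      rfl
    rw [← G.hom.range_fiberι s] at hx hy
    obtain ⟨a, ha⟩ := hx
    obtain ⟨b, hb⟩ := hy
    haveI := h s
    have hab : a = b := by
      have hinj : Function.Injective (G.hom.fiberToSpecResidueField s) :=
        (ConcreteCategory.bijective_of_isIso
          (G.hom.fiberToSpecResidueField s).base).injective
      apply hinj
      rw [Scheme.Hom.fiberToSpecResidueField_apply, Scheme.Hom.fiberToSpecResidueField_apply]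
    rw [← hb, ← ha, hab]
  haveI : Surjective η[G].left := ⟨hsurj⟩
  haveI : IsIso η[G].left := (isIso_iff_isOpenImmersion_and_surjective _).mpr ⟨hopen, inferInstance⟩
  have : G.hom = inv η[G].left := by
    rw [← cancel_epi η[G].left, IsIso.hom_inv_id]
    exact hsec
  rw [this]
  infer_instance

theorem main (S : Scheme.{u}) (G : Over S) [GrpObj G] [LocallyOfFiniteType G.hom] :
    IsIso G.hom ↔ ∀ s : S, IsIso (G.hom.fiberToSpecResidueField s) := by
  constructor
  · intro h s
    show IsIso (pullback.snd G.hom (S.fromSpecResidueField s))
    infer_instance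
  · exact isIso_of_fibres S G

end Groth.Agent.Helper2.FibreTriv
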