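import Mathlib
import Groth.Agent.S12837
import Groth.Agent.S0082
import Groth.Agent.Lib.Helper2.SmBoot.EtSections

/-!
# Torsors under smooth affine groups over `R⟦X⟧`

A torsor under a smooth affine group over `Spec R⟦X⟧` acquires a section over `R'⟦X⟧` for some
étale faithfully flat `R`-algebra `R'`: the restriction to `X = 0` is smooth and surjective over
`Spec R`, hence has sections étale-locally; such a section lifts along the `X`-adically complete
ring `R'⟦X⟧` by formal smoothness.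
-/

set_option autoImplicit false
set_option synthInstance.maxHeartbeats 400000
set_option maxHeartbeats 4000000
set_option linter.style.haveILetI false
set_option linter.unusedSectionVars false
set_option linter.unusedVariables false
set_option linter.unusedSimpArgs false
set_option linter.unnecessarySimpa false

universe u
open CategoryTheory Limits AlgebraicGeometry PowerSeries

namespace Groth.Agent.Helper2.TorsorPS

/-- Lifting a point modulo `X` of a formally smooth `R⟦X⟧`-algebra to a point with values in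
`R'⟦X⟧`. -/
theorem exists_lift_powerSeries {R R' B : Type u} [CommRing R] [CommRing R'] [CommRing B]
    [Algebra R R'] (β : R⟦X⟧ →+* B) (hβ : β.FormallySmooth)
    (σ₀ : B →+* R')
    (h : σ₀.comp β = (algebraMap R R').comp (PowerSeries.constantCoeff (R := R))) :
    ∃ σ : B →+* R'⟦X⟧, σ.comp β = PowerSeries.map (algebraMap R R') := by
  letI : Algebra R⟦X⟧ B := β.toAlgebra
  haveI : Algebra.FormallySmooth R⟦X⟧ B := hβ
  letI : Algebra R⟦X⟧ R'⟦X⟧ := (PowerSeries.map (algebraMap R R')).toAlgebra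
  obtain ⟨I, hI⟩ : ∃ I : Ideal R'⟦X⟧, I = Ideal.span {(PowerSeries.X : R'⟦X⟧)} := ⟨_, rfl⟩
  haveI : IsAdicComplete I R'⟦X⟧ := by rw [hI]; infer_instance
  have hf₀ : ∀ r : R⟦X⟧, (Ideal.Quotient.mk I) (PowerSeries.C (σ₀ (β r))) =
      algebraMap R⟦X⟧ (R'⟦X⟧ ⧸ I) r := by
    intro r
    have e1 : σ₀ (β r) = algebraMap R R' (PowerSeries.constantCoeff r) := RingHom.congr_fun h r
    have e2 : algebraMap R⟦X⟧ (R'⟦X⟧ ⧸ I) r =
        Ideal.Quotient.mk I (PowerSeries.map (algebraMap R R') r) := rfl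
    have e3 : PowerSeries.constantCoeff (PowerSeries.map (algebraMap R R') r) =
        algebraMap R R' (PowerSeries.constantCoeff r) := by
      rw [← PowerSeries.coeff_zero_eq_constantCoeff_apply, PowerSeries.coeff_map,
        PowerSeries.coeff_zero_eq_constantCoeff_apply]
    rw [e1, e2, Ideal.Quotient.eq, hI, Ideal.mem_span_singleton, PowerSeries.X_dvd_iff,
      map_sub, PowerSeries.constantCoeff_C, e3, sub_self]
  let f : B →ₐ[R⟦X⟧] R'⟦X⟧ ⧸ I :=
    { (Ideal.Quotient.mk I).comp ((PowerSeries.C (R := R')).comp σ₀) with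
      commutes' := fun r => hf₀ r }
  obtain ⟨g, hg⟩ := Algebra.FormallySmooth.exists_mkₐ_comp_eq_of_isAdicComplete (I := I) f
  refine ⟨g.toRingHom, ?_⟩
  refine RingHom.ext (fun r => ?_)
  exact g.commutes r

/-- An affine scheme étale and surjective over `Spec R` is the spectrum of an étale faithfully flat
`R`-algebra. -/
theorem exists_algebra_of_affine {R : Type u} [CommRing R] {V : Scheme.{u}} [IsAffine V]
    (D : V ⟶ Spec (CommRingCat.of R)) [Etale D] [Surjective D] :
    ∃ (R' : Type u) (_ : CommRing R') (_ : Algebra R R') (e : Spec (CommRingCat.of R') ⟶ V),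
      Algebra.Etale R R' ∧ Module.FaithfullyFlat R R' ∧
      e ≫ D = Spec.map (CommRingCat.ofHom (algebraMap R R')) := by
  obtain ⟨φ, hφ⟩ := Spec.map_surjective (V.isoSpec.inv ≫ D)
  have hE : Etale (Spec.map φ) := by rw [hφ]; infer_instance
  have hS : Surjective (Spec.map φ) := by rw [hφ]; infer_instance
  have hφE : φ.hom.Etale := (HasRingHomProperty.Spec_iff (P := @Etale)).1 hE
  have hφF : φ.hom.FaithfullyFlat :=
    (flat_and_surjective_SpecMap_iff φ).1 ⟨inferInstance, hS⟩
  refine ⟨Γ(V, ⊤), inferInstance, φ.hom.toAlgebra, V.isoSpec.inv, hφE, hφF, ?_⟩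
  exact hφ.symm

/-- Affine refinement of an étale surjective morphism onto an affine scheme. -/
theorem exists_affine_etale_refinement {R : Type u} [CommRing R] {W : Scheme.{u}}
    (f : W ⟶ Spec (CommRingCat.of R)) [Etale f] [Surjective f] :
    ∃ (R' : Type u) (_ : CommRing R') (_ : Algebra R R') (j : Spec (CommRingCat.of R') ⟶ W),
      Algebra.Etale R R' ∧ Module.FaithfullyFlat R R' ∧
      j ≫ f = Spec.map (CommRingCat.ofHom (algebraMap R R')) := by
  classical
  obtain ⟨𝒰, h𝒰⟩ : ∃ 𝒰 : W.OpenCover, 𝒰 = W.affineCover := ⟨_, rfl⟩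
  haveI : ∀ i, IsAffine (𝒰.X i) := by subst h𝒰; infer_instance
  have hopen : ∀ i : 𝒰.I₀, IsOpen (Set.range (𝒰.f i ≫ f)) :=
    fun i => (𝒰.f i ≫ f).isOpenMap.isOpen_range
  have hcov : (Set.univ : Set ↥(Spec (CommRingCat.of R))) ⊆ ⋃ i, Set.range (𝒰.f i ≫ f) := by
    intro x _
    obtain ⟨w, hw⟩ := (inferInstance : Surjective f).surj x
    obtain ⟨i, y, hy⟩ := 𝒰.exists_eq w
    refine Set.mem_iUnion.2 ⟨i, y, ?_⟩
    rw [Scheme.Hom.comp_apply, hy, hw]
  obtain ⟨t, ht⟩ := isCompact_univ.elim_finite_subcover _ hopen hcov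
  have H : ⋃ i : t, Set.range (𝒰.f i.1 ≫ f) = Set.univ := by
    refine Set.eq_univ_of_univ_subset (fun x hx => ?_)
    obtain ⟨i, hi, hx'⟩ := Set.mem_iUnion₂.1 (ht hx)
    exact Set.mem_iUnion.2 ⟨⟨i, hi⟩, hx'⟩
  haveI hS : Surjective (Sigma.desc (fun i : t => 𝒰.f i.1 ≫ f)) :=
    Surjective.sigmaDesc_of_union_range_eq_univ H
  haveI hE : Etale (Sigma.desc (fun i : t => 𝒰.f i.1 ≫ f)) :=
    IsZariskiLocalAtSource.sigmaDesc (fun i => inferInstance)
  obtain ⟨R', i1, i2, e, h1, h2, h3⟩ :=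
    exists_algebra_of_affine (Sigma.desc (fun i : t => 𝒰.f i.1 ≫ f))
  refine ⟨R', i1, i2, e ≫ Sigma.desc (fun i : t => 𝒰.f i.1), h1, h2, ?_⟩
  rw [Category.assoc, ← h3]
  congr 1
  refine Sigma.hom_ext _ _ (fun i => ?_)
  rw [Sigma.ι_desc_assoc, Sigma.ι_desc]

open MonoidalCategory CartesianMonoidalCategory MonObj GrpObj in
/-- A torsor under an affine smooth group over `R⟦X⟧` has a section over `R'⟦X⟧` for some étale
faithfully flat `R`-algebra `R'`. -/
theorem main (R : Type u) [CommRing R]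
    (G : Over (Spec (CommRingCat.of R⟦X⟧))) [GrpObj G] [IsAffine G.left] [Smooth G.hom]
    (P : Over (Spec (CommRingCat.of R⟦X⟧))) (a : AlgGrp.Action G P)
    (hP : NonAbH1.IsTorsorFor Scheme.fpqcPrecoverage a) :
    ∃ (R' : Type u) (_ : CommRing R') (_ : Algebra R R'),
      Algebra.Etale R R' ∧ Module.FaithfullyFlat R R' ∧
      NonAbH1.HasSectionOver P
        (Spec.map (CommRingCat.ofHom (PowerSeries.map (algebraMap R R')))) := by
  have hAffG : IsAffineHom G.hom := inferInstance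
  have hSurjG : Surjective G.hom := by
    have hη : η[G].left ≫ G.hom = 𝟙 _ := Over.w η[G]
    refine ⟨fun x => ⟨η[G].left x, ?_⟩⟩
    rw [← Scheme.Hom.comp_apply, hη]
    rfl
  haveI := Groth.Agent.S0082.result.{u}
  haveI hsm : Smooth P.hom := Groth.Agent.S12837.torsor_prop @Smooth G P a hP inferInstance
  haveI hsurj : Surjective P.hom := Groth.Agent.S12837.torsor_prop @Surjective G P a hP hSurjG
  haveI haff : IsAffineHom P.hom := Groth.Agent.S12837.torsor_prop @IsAffineHom G P a hP hAffG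
  haveI : IsAffine P.left := isAffine_of_isAffineHom P.hom
  obtain ⟨i₀, hi₀⟩ : ∃ i₀ : Spec (CommRingCat.of R) ⟶ Spec (CommRingCat.of R⟦X⟧),
      i₀ = Spec.map (CommRingCat.ofHom (PowerSeries.constantCoeff (R := R))) := ⟨_, rfl⟩
  haveI : Smooth (pullback.snd P.hom i₀) := inferInstance
  haveI : Surjective (pullback.snd P.hom i₀) := inferInstance
  obtain ⟨W, g, hE, hS⟩ :=
    Groth.Agent.Helper2.SmBootP.exists_etale_surjective_comp (pullback.snd P.hom i₀)
  haveI := hE
  haveI := hS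
  obtain ⟨R', i1, i2, j, h1, h2, hj⟩ :=
    exists_affine_etale_refinement (g ≫ pullback.snd P.hom i₀)
  refine ⟨R', i1, i2, h1, h2, ?_⟩
  obtain ⟨β, hβ⟩ := Spec.map_surjective (P.left.isoSpec.inv ≫ P.hom)
  have hβsm : Smooth (Spec.map β) := by rw [hβ]; infer_instance
  have hβ' : β.hom.Smooth := (HasRingHomProperty.Spec_iff (P := @Smooth)).1 hβsm
  have hβfs : β.hom.FormallySmooth := (RingHom.smooth_def.1 hβ').1
  obtain ⟨σ₀, hσ₀⟩ :=
    Spec.map_surjective ((j ≫ g ≫ pullback.fst P.hom i₀) ≫ P.left.isoSpec.hom)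
  have hcomp : β ≫ σ₀ = CommRingCat.ofHom (PowerSeries.constantCoeff (R := R)) ≫
      CommRingCat.ofHom (algebraMap R R') := by
    apply Spec.map_injective
    rw [Spec.map_comp, Spec.map_comp, hσ₀, hβ, ← hj, ← hi₀]
    simp only [Category.assoc, Iso.hom_inv_id_assoc]
    rw [pullback.condition]
  have hcomp' : σ₀.hom.comp β.hom =
      (algebraMap R R').comp (PowerSeries.constantCoeff (R := R)) :=
    congrArg CommRingCat.Hom.hom hcomp
  obtain ⟨σ, hσ⟩ := exists_lift_powerSeries β.hom hβfs σ₀.hom hcomp'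
  refine (show ∃ s : Spec (CommRingCat.of R'⟦X⟧) ⟶ P.left, s ≫ P.hom =
    Spec.map (CommRingCat.ofHom (PowerSeries.map (algebraMap R R'))) from
    ⟨Spec.map (CommRingCat.ofHom σ) ≫ P.left.isoSpec.inv, ?_⟩)
  rw [Category.assoc, ← hβ, ← Spec.map_comp, ← hσ]
  rfl

end Groth.Agent.Helper2.TorsorPS
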